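import Cfsg.Prelude.Def_SylowChains
import Cfsg.Agent.Lib.LocalStructure.Basic

/-!
Chains of Sylow `p`-subgroups linked through a family of subgroups.

* `Step`, `Linked`: one link, and the reflexive transitive closure
* `controls_iff`: `ControlsSylowIntersections` as `Linked`
* `topFam`, `functorFamily_top`, `topFam_normal`, `step_decode`, `linked_of_regular`,
  `linked_lift`, `isFunctorRegular_top`
* `card_lt_inf_normalizer`, `sylow_inf_eq`
-/

set_option autoImplicit false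

namespace Cfsg.Agent.SylowChain

open Subgroup
open Cfsg.Agent.LocalStructure (IsSylowIn)

variable {G : Type*} [Group G] {p : ℕ} {𝓕 : Set (Subgroup G)} {D D' : Subgroup G}

theorem coe_smul' (g : G) (A : Sylow p G) :
    ((g • A : Sylow p G) : Subgroup G) = (A : Subgroup G).map (MulAut.conj g).toMonoidHom := rfl

theorem mem_smul' {g x : G} {A : Sylow p G} :
    x ∈ ((g • A : Sylow p G) : Subgroup G) ↔ g⁻¹ * x * g ∈ (A : Subgroup G) :=
  LocalStructure.mem_map_conj

theorem subgroupConjRight_eq_iff {x : G} {A B : Sylow p G} :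
    Cfsg.subgroupConjRight x (B : Subgroup G) = (A : Subgroup G) ↔ x • A = B := by
  show ((x⁻¹ • B : Sylow p G) : Subgroup G) = (A : Subgroup G) ↔ _
  exact ⟨fun h => by rw [← Sylow.ext h, smul_inv_smul], fun h => by rw [← h, inv_smul_smul]⟩

theorem mem_sylowMembers_iff {X S : Subgroup G} :
    X ∈ Cfsg.sylowMembers p 𝓕 S ↔ X ∈ 𝓕 ∧ IsSylowIn p (S ⊓ X) X := by
  refine and_congr_right fun _ => ⟨?_, fun h => h.exists_map_eq⟩
  rintro ⟨P, hP⟩
  exact hP ▸ LocalStructure.isSylowIn_map P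

theorem isSylowIn_conj {R L : Subgroup G} (h : IsSylowIn p R L) (g : G) :
    IsSylowIn p (R.map (MulAut.conj g).toMonoidHom) (L.map (MulAut.conj g).toMonoidHom) := by
  have hback : ∀ X : Subgroup G,
      (X.map (MulAut.conj g⁻¹).toMonoidHom).map (MulAut.conj g).toMonoidHom = X := fun X => by
    rw [← LocalStructure.map_conj_mul, mul_inv_cancel, LocalStructure.map_conj_one]
  have hforth : ∀ X : Subgroup G,
      (X.map (MulAut.conj g).toMonoidHom).map (MulAut.conj g⁻¹).toMonoidHom = X := fun X => by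
    rw [← LocalStructure.map_conj_mul, inv_mul_cancel, LocalStructure.map_conj_one]
  refine ⟨map_mono h.1, h.2.1.map _, fun R' h1 h2 h3 => ?_⟩
  have e := h.2.2 (R'.map (MulAut.conj g⁻¹).toMonoidHom) ((hforth R) ▸ map_mono h1)
    ((hforth L) ▸ map_mono h2) (h3.map _)
  rw [← e, hback]

theorem isSylowIn_smul {A : Sylow p G} {X : Subgroup G}
    (h : IsSylowIn p ((A : Subgroup G) ⊓ X) X) (g : G) :
    IsSylowIn p (((g • A : Sylow p G) : Subgroup G) ⊓ X.map (MulAut.conj g).toMonoidHom)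
      (X.map (MulAut.conj g).toMonoidHom) := by
  rw [coe_smul', ← Subgroup.map_inf _ _ _ (MulAut.conj g).injective]
  exact isSylowIn_conj h g

theorem isSylowIn_smul_mem {A : Sylow p G} {X : Subgroup G} {x : G}
    (h : IsSylowIn p ((A : Subgroup G) ⊓ X) X) (hx : x ∈ X) :
    IsSylowIn p (((x • A : Sylow p G) : Subgroup G) ⊓ X) X := by
  simpa only [LocalStructure.map_conj_eq_self (le_normalizer hx)] using isSylowIn_smul h x

theorem card_le_of_isSylowIn [Finite G] [Fact p.Prime] {R Q L : Subgroup G}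
    (h : IsSylowIn p R L) (hQ : IsPGroup p ↥Q) (hQL : Q ≤ L) : Nat.card ↥Q ≤ Nat.card ↥R := by
  obtain ⟨l, -, hl⟩ := h.exists_conj_le hQ hQL
  exact (LocalStructure.card_map_conj Q l) ▸ card_le_of_le hl

/-- A Sylow subgroup of `G` through a Sylow subgroup of `L` meets `L` in it. -/
theorem sylow_inf_eq {R L : Subgroup G} (h : IsSylowIn p R L) {U : Sylow p G}
    (hU : R ≤ (U : Subgroup G)) : (U : Subgroup G) ⊓ L = R :=
  h.2.2 _ (le_inf hU h.1) inf_le_right (U.2.to_le inf_le_left)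

theorem card_lt_inf_normalizer [Finite G] [Fact p.Prime] {R W : Subgroup G}
    (hW : IsPGroup p ↥W) (h : R < W) :
    Nat.card ↥R < Nat.card ↥(W ⊓ normalizer (R : Set G)) := by
  obtain ⟨x, hxW, hxn, hxR⟩ := LocalStructure.exists_mem_normalizer_of_lt hW h
  have hlt : R < W ⊓ normalizer (R : Set G) :=
    lt_of_le_of_ne (le_inf h.le le_normalizer) fun e => hxR (e ▸ ⟨hxW, hxn⟩)
  exact lt_of_not_ge fun hc => hlt.ne (eq_of_le_of_card_ge hlt.le hc)

/-! ### Steps and links -/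

/-- One link `A → B = x A x⁻¹`, `x ∈ X ∈ 𝓕`, above `D`. -/
def Step (p : ℕ) (𝓕 : Set (Subgroup G)) (D : Subgroup G) (A B : Sylow p G) : Prop :=
  ∃ X x, X ∈ 𝓕 ∧ IsSylowIn p ((A : Subgroup G) ⊓ X) X ∧ x ∈ X ∧ x • A = B ∧
    D ≤ (A : Subgroup G) ∧ D ≤ (B : Subgroup G) ∧ D ≤ X

/-- Chains of links above `D`. -/
def Linked (p : ℕ) (𝓕 : Set (Subgroup G)) (D : Subgroup G) : Sylow p G → Sylow p G → Prop :=
  Relation.ReflTransGen (Step p 𝓕 D)

theorem Step.mono {A B : Sylow p G} (h : Step p 𝓕 D A B) (hD : D' ≤ D) : Step p 𝓕 D' A B := by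
  obtain ⟨X, x, hX, hA, hx, he, h1, h2, h3⟩ := h
  exact ⟨X, x, hX, hA, hx, he, hD.trans h1, hD.trans h2, hD.trans h3⟩

theorem Linked.mono {A B : Sylow p G} (h : Linked p 𝓕 D A B) (hD : D' ≤ D) :
    Linked p 𝓕 D' A B :=
  Relation.ReflTransGen.mono (fun _ _ hs => Step.mono hs hD) _ _ h

theorem Step.symm {A B : Sylow p G} (h : Step p 𝓕 D A B) : Step p 𝓕 D B A := by
  obtain ⟨X, x, hX, hA, hx, he, h1, h2, h3⟩ := h
  refine ⟨X, x⁻¹, hX, he ▸ isSylowIn_smul_mem hA hx, inv_mem hx, ?_, h2, h1, h3⟩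
  rw [← he, inv_smul_smul]

theorem Linked.symm {A B : Sylow p G} (h : Linked p 𝓕 D A B) : Linked p 𝓕 D B A := by
  induction h with
  | refl => exact Relation.ReflTransGen.refl
  | tail _ hs ih => exact ih.head hs.symm

theorem map_conj_mem (hn : Cfsg.IsNormalSet 𝓕) {X : Subgroup G} (hX : X ∈ 𝓕) (g : G) :
    X.map (MulAut.conj g).toMonoidHom ∈ 𝓕 := by
  simpa [Cfsg.subgroupConjRight] using hn X hX g⁻¹

theorem Step.smul (hn : Cfsg.IsNormalSet 𝓕) {A B : Sylow p G} (h : Step p 𝓕 D A B) (g : G) :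
    Step p 𝓕 (D.map (MulAut.conj g).toMonoidHom) (g • A) (g • B) := by
  obtain ⟨X, x, hX, hA, hx, he, h1, h2, h3⟩ := h
  refine ⟨_, g * x * g⁻¹, map_conj_mem hn hX g, isSylowIn_smul hA g, ⟨x, hx, rfl⟩, ?_,
    map_mono h1, map_mono h2, map_mono h3⟩
  rw [← he, ← mul_smul, ← mul_smul, inv_mul_cancel_right]

theorem Linked.smul (hn : Cfsg.IsNormalSet 𝓕) {A B : Sylow p G} (h : Linked p 𝓕 D A B) (g : G) :
    Linked p 𝓕 (D.map (MulAut.conj g).toMonoidHom) (g • A) (g • B) :=
  Relation.ReflTransGen.lift (g • ·) (fun _ _ hs => Step.smul hn hs g) _ _ h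

theorem linked_iff_exists_chain {S T : Sylow p G} (hS : D ≤ (S : Subgroup G)) :
    Linked p 𝓕 D S T ↔
      ∃ (n : ℕ) (c : Fin (n + 1) → Sylow p G) (X : Fin n → Subgroup G) (x : Fin n → G),
        c 0 = S ∧ c (Fin.last n) = T ∧
        ∀ i : Fin n,
          X i ∈ Cfsg.sylowMembers p 𝓕 (c i.castSucc : Subgroup G) ∧
          X i ∈ Cfsg.sylowMembers p 𝓕 (c i.succ : Subgroup G) ∧ x i ∈ X i ∧
          Cfsg.subgroupConjRight (x i) (c i.succ : Subgroup G) = (c i.castSucc : Subgroup G) ∧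
          D ≤ (c i.succ : Subgroup G) ⊓ X i := by
  constructor
  · intro h
    clear hS
    induction h using Relation.ReflTransGen.head_induction_on with
    | refl => exact ⟨0, fun _ => T, Fin.elim0, Fin.elim0, rfl, rfl, fun i => i.elim0⟩
    | head hs _ ih =>
      rename_i A B _
      obtain ⟨n, c, X, x, hc0, hcn, hc⟩ := ih
      obtain ⟨Y, y, hY, hA, hy, he, -, h2, h3⟩ := hs
      refine ⟨n + 1, Fin.cons A c, Fin.cons Y X, Fin.cons y x, rfl, ?_, fun i => ?_⟩
      · rw [← Fin.succ_last, Fin.cons_succ, hcn]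
      · refine Fin.cases ?_ (fun j => ?_) i
        · simp only [Fin.castSucc_zero, Fin.cons_zero, Fin.cons_succ, hc0]
          exact ⟨mem_sylowMembers_iff.2 ⟨hY, hA⟩,
            mem_sylowMembers_iff.2 ⟨hY, he ▸ isSylowIn_smul_mem hA hy⟩, hy,
            subgroupConjRight_eq_iff.2 he, le_inf h2 h3⟩
        · simp only [← Fin.succ_castSucc, Fin.cons_succ]
          exact hc j
  · rintro ⟨n, c, X, x, hc0, hcn, hc⟩
    suffices h : ∀ i : Fin (n + 1), D ≤ (c i : Subgroup G) ∧ Linked p 𝓕 D S (c i) by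
      exact hcn ▸ (h (Fin.last n)).2
    intro i
    induction i using Fin.induction with
    | zero => exact ⟨hc0 ▸ hS, hc0 ▸ Relation.ReflTransGen.refl⟩
    | succ i ih =>
      obtain ⟨hm, -, hx, he, hD⟩ := hc i
      refine ⟨hD.trans inf_le_left, ih.2.tail ⟨X i, x i, (mem_sylowMembers_iff.1 hm).1,
        (mem_sylowMembers_iff.1 hm).2, hx, subgroupConjRight_eq_iff.1 he, ih.1,
        hD.trans inf_le_left, hD.trans inf_le_right⟩⟩

theorem controls_iff :
    Cfsg.ControlsSylowIntersections p 𝓕 ↔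
      ∀ S T : Sylow p G, S ≠ T → (S : Subgroup G) ⊓ (T : Subgroup G) ≠ ⊥ →
        Linked p 𝓕 ((S : Subgroup G) ⊓ (T : Subgroup G)) S T :=
  ⟨fun h S T h1 h2 => (linked_iff_exists_chain inf_le_left).2 (h S T h1 h2),
    fun h S T h1 h2 => (linked_iff_exists_chain inf_le_left).1 (h S T h1 h2)⟩

/-! ### The families induced by a normalizer functor -/

variable {f : Subgroup G → Set (Subgroup G)}

/-- The normalisers of the members of `f P`, over the Sylow subgroups `P` of `G`. -/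
def topFam (p : ℕ) (f : Subgroup G → Set (Subgroup G)) : Set (Subgroup G) :=
  {X | ∃ P : Sylow p G, ∃ F ∈ f (P : Subgroup G), X = normalizer (F : Set G)}

theorem map_subtype_eq {M : Subgroup G} (V : Sylow p G) (hV : (V : Subgroup G) ≤ M) :
    ((V.subtype hV : Sylow p ↥M) : Subgroup ↥M).map M.subtype = (V : Subgroup G) := by
  rw [Sylow.coe_subtype, subgroupOf_map_subtype, inf_eq_left.2 hV]

/-- Sylow subgroups of an over-group of a Sylow subgroup come from `G`. -/
theorem exists_lift [Finite G] [Fact p.Prime] {M : Subgroup G} {A : Sylow p G}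
    (hA : (A : Subgroup G) ≤ M) (C : Sylow p ↥M) :
    ∃ (V : Sylow p G) (hV : (V : Subgroup G) ≤ M), V.subtype hV = C := by
  obtain ⟨m, hm⟩ := MulAction.exists_smul_eq ↥M (A.subtype hA) C
  exact ⟨(m : G) • A, LocalStructure.map_conj_le hA m.2, by rw [← hm, Sylow.smul_subtype]; rfl⟩

theorem functorFamily_top [Finite G] [Fact p.Prime] : Cfsg.functorFamily p f ⊤ = topFam p f := by
  ext X
  constructor
  · rintro ⟨P, F, hF, rfl⟩
    obtain ⟨V, hV, rfl⟩ := exists_lift (A := (default : Sylow p G)) le_top P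
    rw [map_subtype_eq] at hF
    exact ⟨V, F, hF, top_inf_eq _⟩
  · rintro ⟨P, F, hF, rfl⟩
    exact ⟨P.subtype le_top, F, by rwa [map_subtype_eq], (top_inf_eq _).symm⟩

theorem topFam_normal (hf : Cfsg.IsNormalizerFunctor p f) : Cfsg.IsNormalSet (topFam p f) := by
  rintro X ⟨P, F, hF, rfl⟩ g
  refine ⟨g⁻¹ • P, F.map (MulAut.conj g⁻¹).toMonoidHom, ?_,
    map_normalizer_eq_of_bijective F (f := (MulAut.conj g⁻¹).toMonoidHom)
      (MulAut.conj g⁻¹).bijective⟩
  rw [coe_smul', (hf _ P.2).2 g⁻¹]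
  exact ⟨F, hF, rfl⟩

/-- A Sylow subgroup inside a member of `topFam` gives a link. -/
theorem step_of_le {A : Sylow p G} {X : Subgroup G} {x : G} (hX : X ∈ 𝓕)
    (hA : (A : Subgroup G) ≤ X) (hx : x ∈ X) (h1 : D ≤ (A : Subgroup G))
    (h2 : D ≤ ((x • A : Sylow p G) : Subgroup G)) : Step p 𝓕 D A (x • A) :=
  ⟨X, x, hX, (inf_eq_left.2 hA).symm ▸ LocalStructure.isSylowIn_of_sylow A hA, hx, rfl, h1, h2,
    h1.trans hA⟩

theorem le_normalizer_functor (hf : Cfsg.IsNormalizerFunctor p f) {P F : Subgroup G}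
    (hP : IsPGroup p ↥P) (hF : F ∈ f P) : P ≤ normalizer (F : Set G) :=
  le_normalizer.trans (((hf P hP).1 F hF).2)

/-- The family induced in `M`, as subgroups of `M`. -/
def subFam (p : ℕ) (f : Subgroup G → Set (Subgroup G)) (M : Subgroup G) : Set (Subgroup ↥M) :=
  (fun X : Subgroup G => X.subgroupOf M) '' Cfsg.functorFamily p f M

/-- A link in `M` sits in `M ∩ N(F)`, which contains both ends. -/
theorem step_decode [Finite G] [Fact p.Prime] (hf : Cfsg.IsNormalizerFunctor p f) {M : Subgroup G}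
    {E : Subgroup ↥M} {C C' : Sylow p ↥M} (h : Step p (subFam p f M) E C C') :
    ∃ (P : Sylow p ↥M) (F : Subgroup G) (x : ↥M), F ∈ f ((P : Subgroup ↥M).map M.subtype) ∧
      (C : Subgroup ↥M).map M.subtype ≤ normalizer (F : Set G) ∧
      (C' : Subgroup ↥M).map M.subtype ≤ normalizer (F : Set G) ∧
      (x : G) ∈ normalizer (F : Set G) ∧ x • C = C' ∧ E ≤ C ∧ E ≤ C' := by
  obtain ⟨_, x, ⟨_, ⟨P, F, hF, rfl⟩, rfl⟩, hC, hx, he, h1, h2, -⟩ := h
  have hPX : (P : Subgroup ↥M) ≤ (M ⊓ normalizer (F : Set G)).subgroupOf M := fun y hy =>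
    ⟨y.2, le_normalizer_functor hf (P.2.map _) hF ⟨y, hy, rfl⟩⟩
  have hcard : Nat.card ↥(C : Subgroup ↥M) ≤ Nat.card ↥((C : Subgroup ↥M) ⊓
      (M ⊓ normalizer (F : Set G)).subgroupOf M) := by
    rw [C.card_eq_multiplicity, ← P.card_eq_multiplicity]
    exact card_le_of_isSylowIn hC P.2 hPX
  have hCX := inf_eq_left.1 (eq_of_le_of_card_ge inf_le_left hcard)
  refine ⟨P, F, x, hF, ?_, ?_, hx.2, he, h1, h2⟩
  · rintro _ ⟨y, hy, rfl⟩
    exact (hCX hy).2
  · rintro _ ⟨y, hy, rfl⟩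
    rw [← he, coe_smul'] at hy
    exact ((LocalStructure.map_conj_le hCX hx) hy).2

theorem linked_of_regular {M : Subgroup G} (hr : Cfsg.IsFunctorRegular p f M)
    (C C' : Sylow p ↥M) {E : Subgroup ↥M} (hne : E ≠ ⊥) (h1 : E ≤ C) (h2 : E ≤ C') :
    Linked p (subFam p f M) E C C' := by
  by_cases he : C = C'
  · exact he ▸ Relation.ReflTransGen.refl
  · refine Linked.mono (controls_iff.1 hr C C' he fun hb => hne ?_) (le_inf h1 h2)
    exact le_bot_iff.1 (hb ▸ le_inf h1 h2)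

/-- Regular subgroups containing a Sylow subgroup give links in `G`. -/
theorem linked_lift [Finite G] [Fact p.Prime] (hf : Cfsg.IsNormalizerFunctor p f) {M : Subgroup G}
    (hr : Cfsg.IsFunctorRegular p f M) {A B : Sylow p G} (hA : (A : Subgroup G) ≤ M)
    (hB : (B : Subgroup G) ≤ M) (h1 : D ≤ (A : Subgroup G)) (h2 : D ≤ (B : Subgroup G))
    (hne : D ≠ ⊥) : Linked p (topFam p f) D A B := by
  have hDM : D ≤ M := h1.trans hA
  have hE : D.subgroupOf M ≠ ⊥ := fun h0 => hne (by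
    have := subgroupOf_eq_bot.1 h0
    rwa [disjoint_iff, inf_eq_left.2 hDM] at this)
  have hl := linked_of_regular hr (A.subtype hA) (B.subtype hB) (E := D.subgroupOf M) hE
    (fun x hx => h1 hx) (fun x hx => h2 hx)
  suffices h : ∀ C, Linked p (subFam p f M) (D.subgroupOf M) (A.subtype hA) C →
      ∃ (V : Sylow p G) (hV : (V : Subgroup G) ≤ M), V.subtype hV = C ∧
        Linked p (topFam p f) D A V by
    obtain ⟨V, hV, he, hV'⟩ := h _ hl
    exact Sylow.subtype_injective he ▸ hV'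
  intro C hC
  induction hC with
  | refl => exact ⟨A, hA, rfl, Relation.ReflTransGen.refl⟩
  | tail _ hs ih =>
    obtain ⟨V, hV, rfl, hAV⟩ := ih
    obtain ⟨P, F, x, hF, hC1, -, hx, he, hD1, hD2⟩ := step_decode hf hs
    obtain ⟨W, hW, rfl⟩ := exists_lift hA P
    rw [map_subtype_eq] at hF hC1
    refine ⟨(x : G) • V, LocalStructure.map_conj_le hV x.2, ?_, hAV.tail ?_⟩
    · rw [← he, Sylow.smul_subtype]
      rfl
    · refine step_of_le ⟨W, F, hF, rfl⟩ hC1 hx (fun d hd => hD1 (show (⟨d, hDM hd⟩ : ↥M) ∈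
        D.subgroupOf M from hd)) fun d hd => ?_
      have h3 := hD2 (show (⟨d, hDM hd⟩ : ↥M) ∈ D.subgroupOf M from hd)
      rw [← he, Sylow.smul_subtype] at h3
      exact h3

theorem isFunctorRegular_top [Finite G] [Fact p.Prime] (hf : Cfsg.IsNormalizerFunctor p f)
    (h : ∀ S T : Sylow p G, S ≠ T → (S : Subgroup G) ⊓ (T : Subgroup G) ≠ ⊥ →
      Linked p (topFam p f) ((S : Subgroup G) ⊓ (T : Subgroup G)) S T) :
    Cfsg.IsFunctorRegular p f ⊤ := by
  refine controls_iff.2 fun C C' hne hbot => ?_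
  obtain ⟨A, hA, rfl⟩ := exists_lift (A := (default : Sylow p G)) le_top C
  obtain ⟨B, hB, rfl⟩ := exists_lift (A := (default : Sylow p G)) le_top C'
  have hl := h A B (fun e => hne (by subst e; rfl)) fun hb => hbot (by
    refine (eq_bot_iff_forall _).2 fun d hd => ?_
    have h' : (d : G) ∈ (A : Subgroup G) ⊓ (B : Subgroup G) := hd
    rw [hb, mem_bot] at h'
    exact Subtype.ext h')
  refine Linked.mono (D := ((A : Subgroup G) ⊓ (B : Subgroup G)).subgroupOf ⊤) ?_ (le_of_eq ?_)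
  · refine Relation.ReflTransGen.lift (fun V : Sylow p G => V.subtype le_top) ?_ _ _ hl
    rintro V W ⟨X, x, hX, hVX, hx, rfl, h1, h2, -⟩
    obtain ⟨P, F, hF, rfl⟩ := hX
    have hVle : (V : Subgroup G) ≤ normalizer (F : Set G) := by
      refine inf_eq_left.1 (eq_of_le_of_card_ge inf_le_left ?_)
      rw [V.card_eq_multiplicity, ← P.card_eq_multiplicity]
      exact card_le_of_isSylowIn hVX P.2 (le_normalizer_functor hf P.2 hF)
    refine ⟨(normalizer (F : Set G)).subgroupOf ⊤, ⟨x, mem_top _⟩,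
      ⟨normalizer (F : Set G), ?_, rfl⟩, ?_, hx, ?_, fun d hd => h1 hd, fun d hd => h2 hd,
      fun d hd => hVle (h1 hd)⟩
    · rw [functorFamily_top]
      exact ⟨P, F, hF, rfl⟩
    · rw [inf_eq_left.2 (show ((V.subtype le_top : Sylow p ↥(⊤ : Subgroup G)) : Subgroup _) ≤
        (normalizer (F : Set G)).subgroupOf ⊤ from fun d hd => hVle hd)]
      exact LocalStructure.isSylowIn_of_sylow _ fun d hd => hVle hd
    · exact Sylow.smul_subtype _ _
  · rw [Sylow.coe_subtype, Sylow.coe_subtype]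
    exact (comap_inf _ _ _).symm

end Cfsg.Agent.SylowChain
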